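import Cfsg.Agent.J4Out.Letters
import Cfsg.Agent.J4Pgl.Data

/-!
# The relations of the three elements in the representation
-/

set_option autoImplicit false
set_option maxRecDepth 100000
set_option Elab.async false

namespace Cfsg.Agent.J4Pgl

open Cfsg.Agent.J4Rep Cfsg.Agent.J4Out

/-- The matrices: the four letters, then the three elements. -/
noncomputable def mt7 (k : Nat) : List Nat :=
  [colsX, colsY, colsYi, colsT, matu, matH, matW].getD k []

theorem def_u : eqB mt7 [4] wordu = true := by decide +kernel

theorem def_H : eqB mt7 [5] wordH = true := by decide +kernel

theorem def_W : eqB mt7 [6] wordW = true := by decide +kernel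

theorem small_words : (wordu ++ wordH ++ wordW).all (fun k => decide (k < 4)) = true := by decide +kernel

theorem rel_u : eqB mt7 (List.replicate 23 4) [] = true := by decide +kernel

theorem rel_H : eqB mt7 (List.replicate 22 5) [] = true := by decide +kernel

theorem rel_W : eqB mt7 [6, 6] [] = true := by decide +kernel

theorem rel_Hu : eqB mt7 [5, 4] (List.replicate 21 4 ++ [5]) = true := by decide +kernel

theorem rel_WH : eqB mt7 [6, 5, 6] (List.replicate 21 5) = true := by decide +kernel

theorem rel_rules : (rules.all fun r =>
    eqB mt7 ([6] ++ List.replicate r.1 4 ++ [6])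
      (List.replicate r.2.1 4 ++ List.replicate r.2.2.1 5 ++ [6] ++ List.replicate r.2.2.2 4)) = true := by
  decide +kernel

/-- A unit vector moved by a word. -/
noncomputable def movesB (w : List Nat) : Bool :=
  (units 112).any fun v => ! Nat.beq (run mt7 w v) v

theorem moves : movesB [4] = true ∧ movesB [5, 5] = true ∧ movesB (List.replicate 11 5) = true := by
  decide +kernel

/-- No power of the first element is its conjugate by the third. -/
theorem not_norm : ((List.range 23).all fun a => (units 112).any fun v =>
    ! Nat.beq (run mt7 [6, 4, 6] v) (run mt7 (List.replicate a 4) v)) = true := by decide +kernel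

end Cfsg.Agent.J4Pgl
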