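import Cfsg.Agent.J4Pgl.Data

/-!
# A group with the rules of PGL(2, 23) is PGL(2, 23)

The pairs of corresponding generators generate a subgroup of the product in which every element has a
normal form `u^a h^b` or `u^a h^b w u^e`; both projections are faithful on these.
-/

set_option autoImplicit false
set_option maxRecDepth 20000

namespace Cfsg.Agent.J4Pgl

instance : Fact (Nat.Prime 23) := ⟨by norm_num⟩

/-- The rules. -/
structure Rules {Γ : Type*} [Group Γ] (u h w : Γ) : Prop where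
  hu : u ^ 23 = 1
  hh : h ^ 22 = 1
  hw : w * w = 1
  hhu : h * u = u ^ 21 * h
  hwh : w * h * w = h ^ 21
  rule : ∀ r ∈ rules, w * u ^ r.1 * w = u ^ r.2.1 * h ^ r.2.2.1 * w * u ^ r.2.2.2

section

variable {Γ : Type*} [Group Γ] {u h w : Γ}

/-- The normal forms. -/
def forms (u h w : Γ) : Set Γ :=
  {x | (∃ a b : ℕ, x = u ^ a * h ^ b) ∨ ∃ a b e : ℕ, x = u ^ a * h ^ b * w * u ^ e}

theorem h_pow_u (R : Rules u h w) (b a : ℕ) : h ^ b * u ^ a = u ^ (21 ^ b * a) * h ^ b := by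
  have h1 : ∀ a : ℕ, h * u ^ a = u ^ (21 * a) * h := fun a => by
    induction a with
    | zero => simp
    | succ a ih =>
      rw [pow_succ, ← mul_assoc, ih, mul_assoc, R.hhu, ← mul_assoc, ← pow_add]
      ring_nf
  induction b generalizing a with
  | zero => simp
  | succ b ih =>
    rw [pow_succ, mul_assoc, h1, ← mul_assoc, ih, mul_assoc]
    ring_nf

theorem u_pow_h (R : Rules u h w) (a b : ℕ) : ∃ c : ℕ, u ^ a * h ^ b = h ^ b * u ^ c := by
  refine ⟨11 ^ b * a, ?_⟩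
  rw [h_pow_u R, ← mul_assoc, ← mul_pow]
  congr 1
  rw [pow_eq_pow_mod ((21 * 11) ^ b * a) R.hu, Nat.mul_mod, Nat.pow_mod]
  norm_num
  rw [← pow_eq_pow_mod _ R.hu]

theorem w_pow_h (R : Rules u h w) : ∀ b : ℕ, w * h ^ b = h ^ (21 * b) * w := by
  have h1 : w * h = h ^ 21 * w := by
    rw [← R.hwh, mul_assoc, R.hw, mul_one]
  intro b
  induction b with
  | zero => simp
  | succ b ih => rw [pow_succ, ← mul_assoc, ih, mul_assoc, h1, ← mul_assoc, ← pow_add, Nat.mul_succ]

theorem forms_mul (R : Rules u h w) {g x : Γ} (hg : g = u ∨ g = h ∨ g = w) (hx : x ∈ forms u h w) :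
    g * x ∈ forms u h w := by
  rcases hg with hg | hg | hg <;> subst g
  · rcases hx with ⟨a, b, rfl⟩ | ⟨a, b, e, rfl⟩
    · exact Or.inl ⟨a + 1, b, by rw [pow_succ']; simp only [mul_assoc]⟩
    · exact Or.inr ⟨a + 1, b, e, by rw [pow_succ']; simp only [mul_assoc]⟩
  · have h1 := h_pow_u R 1
    simp only [pow_one] at h1
    rcases hx with ⟨a, b, rfl⟩ | ⟨a, b, e, rfl⟩
    · exact Or.inl ⟨21 * a, b + 1, by rw [pow_succ', ← mul_assoc, h1]; simp only [mul_assoc]⟩
    · exact Or.inr ⟨21 * a, b + 1, e, by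
        rw [pow_succ', ← mul_assoc, ← mul_assoc, ← mul_assoc, h1]; simp only [mul_assoc]⟩
  · rcases hx with ⟨a, b, rfl⟩ | ⟨a, b, e, rfl⟩
    · obtain ⟨c, hc⟩ := u_pow_h R a b
      exact Or.inr ⟨0, 21 * b, c, by rw [hc, ← mul_assoc, w_pow_h R, pow_zero, one_mul]⟩
    · obtain ⟨c, hc⟩ := u_pow_h R a b
      have key : w * (u ^ a * h ^ b * w * u ^ e) = h ^ (21 * b) * (w * u ^ c * w) * u ^ e := by
        rw [hc]
        simp only [← mul_assoc]
        rw [w_pow_h R]
      rw [key, pow_eq_pow_mod c R.hu]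
      have hlt : c % 23 < 23 := Nat.mod_lt _ (by norm_num)
      by_cases h0 : c % 23 = 0
      · rw [h0, pow_zero, mul_one, R.hw, mul_one]
        exact Or.inl ⟨21 ^ (21 * b) * e, 21 * b, h_pow_u R _ _⟩
      · obtain ⟨r, hr, hrc⟩ : ∃ r ∈ rules, r.1 = c % 23 :=
          (show ∀ n < 23, n ≠ 0 → ∃ r ∈ rules, r.1 = n by decide) _ hlt h0
        refine Or.inr ⟨21 ^ (21 * b) * r.2.1, 21 * b + r.2.2.1, r.2.2.2 + e, ?_⟩
        rw [← hrc, R.rule r hr]
        simp only [← mul_assoc]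
        rw [h_pow_u R, pow_add, pow_add]
        simp only [mul_assoc]

theorem closure_le_forms (R : Rules u h w) {x : Γ}
    (hx : x ∈ Subgroup.closure ({u, h, w} : Set Γ)) : x ∈ forms u h w := by
  have hpow : ∀ g, (g = u ∨ g = h ∨ g = w) → ∀ (n : ℕ) (y : Γ), y ∈ forms u h w → g ^ n * y ∈ forms u h w := by
    intro g hg n y hy
    induction n with
    | zero => simpa using hy
    | succ n ih => rw [pow_succ', mul_assoc]; exact forms_mul R hg ih
  induction hx using Subgroup.closure_induction_left with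
  | one => exact Or.inl ⟨0, 0, by simp⟩
  | mul_left g hg y _ hy => exact forms_mul R (by simpa using hg) hy
  | inv_mul_cancel g hg y _ hy =>
    have hg' : g = u ∨ g = h ∨ g = w := by simpa using hg
    rcases hg' with hg' | hg' | hg' <;> subst g
    · rw [inv_eq_of_mul_eq_one_right (show u * u ^ 22 = 1 by rw [← pow_succ', R.hu])]
      exact hpow _ (Or.inl rfl) _ _ hy
    · rw [inv_eq_of_mul_eq_one_right (show h * h ^ 21 = 1 by rw [← pow_succ', R.hh])]
      exact hpow _ (Or.inr (Or.inl rfl)) _ _ hy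
    · rw [inv_eq_of_mul_eq_one_right R.hw]
      exact forms_mul R (Or.inr (Or.inr rfl)) hy

/-- What makes the normal forms distinct from one. -/
theorem forms_eq_one (R : Rules u h w) (hu1 : u ≠ 1) (hh2 : h ^ 2 ≠ 1) (hh11 : h ^ 11 ≠ 1)
    (hn : ∀ a : ℕ, w * u * w ≠ u ^ a) :
    (∀ a b : ℕ, u ^ a * h ^ b = 1 → u ^ a = 1 ∧ h ^ b = 1 ∧ 23 ∣ a ∧ 22 ∣ b) ∧
      ∀ a b e : ℕ, u ^ a * h ^ b * w * u ^ e ≠ 1 := by
  refine ⟨fun a b e => ?_, fun a b c e => ?_⟩
  · have hou : orderOf u = 23 := orderOf_eq_prime R.hu hu1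
    have hoh : orderOf h = 22 := by
      refine orderOf_eq_of_pow_and_pow_div_prime (by norm_num) R.hh fun p hp hd => ?_
      have : p = 2 ∨ p = 11 := by
        have := Nat.le_of_dvd (by norm_num) hd
        interval_cases p <;> first | omega | exact absurd hp (by norm_num)
      rcases this with rfl | rfl
      · exact hh11
      · exact hh2
    have h1 : u ^ a = 1 := by
      have hab : h ^ b = (u ^ a)⁻¹ := eq_inv_of_mul_eq_one_right e
      have : ((u ^ a)⁻¹) ^ 22 = 1 := by rw [← hab, ← pow_mul, mul_comm, pow_mul, R.hh, one_pow]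
      rw [inv_pow, inv_eq_one, ← pow_mul] at this
      rw [← orderOf_dvd_iff_pow_eq_one, hou] at this
      rw [← orderOf_dvd_iff_pow_eq_one, hou]
      omega
    have h2 : h ^ b = 1 := by rwa [h1, one_mul] at e
    exact ⟨h1, h2, hou ▸ orderOf_dvd_of_pow_eq_one h1, hoh ▸ orderOf_dvd_of_pow_eq_one h2⟩
  · have e1 : (w * u ^ c) * (u ^ a * h ^ b) = 1 := mul_eq_one_comm.1 (by rw [← mul_assoc]; exact e)
    have hwv : u ^ c * (u ^ a * h ^ b) = w := by
      rw [mul_assoc] at e1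
      rw [← inv_eq_of_mul_eq_one_right R.hw, eq_inv_of_mul_eq_one_right e1]
    have hmv : u ^ a * h ^ b * u = u ^ (21 ^ b) * (u ^ a * h ^ b) := by
      have h1 := h_pow_u R b 1
      rw [pow_one, mul_one] at h1
      rw [mul_assoc, h1, ← mul_assoc, ← mul_assoc, ← pow_add, ← pow_add, add_comm]
    refine hn (21 ^ b) ?_
    calc w * u * w = u ^ c * (u ^ a * h ^ b * u) * w := by rw [← mul_assoc (u ^ c), hwv]
      _ = u ^ (21 ^ b) * (u ^ c * (u ^ a * h ^ b)) * w := by
        rw [hmv, ← mul_assoc (u ^ c), ← pow_add, add_comm, pow_add, mul_assoc (u ^ _) (u ^ c)]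
      _ = u ^ (21 ^ b) := by rw [hwv, mul_assoc, R.hw, mul_one]

end

/-- The group. -/
abbrev PGL23 : Type := GL (Fin 2) (ZMod 23) ⧸ Subgroup.center (GL (Fin 2) (ZMod 23))

/-- A matrix as an element. -/
noncomputable def gl (M : Matrix (Fin 2) (Fin 2) (ZMod 23)) (h : M.det ≠ 0) : GL (Fin 2) (ZMod 23) :=
  Matrix.GeneralLinearGroup.mkOfDetNeZero M h

/-- The unipotent element. -/
noncomputable def uG : GL (Fin 2) (ZMod 23) := gl !![1, 1; 0, 1] (by decide +kernel)

/-- The diagonal element. -/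
noncomputable def hG : GL (Fin 2) (ZMod 23) := gl !![21, 0; 0, 1] (by decide +kernel)

/-- The Weyl element. -/
noncomputable def wG : GL (Fin 2) (ZMod 23) := gl !![0, 1; 22, 0] (by decide +kernel)

theorem scalar_mem {g : GL (Fin 2) (ZMod 23)} {s : ZMod 23}
    (hg : (g : Matrix (Fin 2) (Fin 2) (ZMod 23)) = s • 1) : g ∈ Subgroup.center (GL (Fin 2) (ZMod 23)) :=
  Subgroup.mem_center_iff.2 fun x => Units.ext (by simp [hg])

theorem mk_eq {g g' : GL (Fin 2) (ZMod 23)} (s : ZMod 23)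
    (e : (g : Matrix (Fin 2) (Fin 2) (ZMod 23)) = s • (g' : Matrix (Fin 2) (Fin 2) (ZMod 23))) :
    (g : PGL23) = g' := by
  refine (QuotientGroup.eq.2 ?_).symm
  exact scalar_mem (s := s) (by rw [Units.val_mul, e, Matrix.mul_smul, Units.inv_mul])

theorem uG_pow (a : ℕ) : ((uG ^ a : GL (Fin 2) (ZMod 23)) : Matrix (Fin 2) (Fin 2) (ZMod 23)) = !![1, (a : ZMod 23); 0, 1] := by
  induction a with
  | zero => simp [Matrix.one_fin_two]
  | succ a ih =>
    rw [pow_succ, Units.val_mul, ih]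
    simp [uG, gl, Matrix.mul_fin_two, add_comm]

theorem hG_pow (b : ℕ) : ((hG ^ b : GL (Fin 2) (ZMod 23)) : Matrix (Fin 2) (Fin 2) (ZMod 23)) = !![(21 : ZMod 23) ^ b, 0; 0, 1] := by
  induction b with
  | zero => simp [Matrix.one_fin_two]
  | succ b ih =>
    rw [pow_succ, Units.val_mul, ih]
    simp [hG, gl, Matrix.mul_fin_two, pow_succ]

theorem wG_val : (wG : Matrix (Fin 2) (Fin 2) (ZMod 23)) = !![0, 1; 22, 0] := rfl

theorem rules_model : ∀ r ∈ rules, ∃ s : ZMod 23,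
    (!![0, 1; 22, 0] * !![1, (r.1 : ZMod 23); 0, 1] * !![0, 1; 22, 0] : Matrix (Fin 2) (Fin 2) (ZMod 23)) =
      s • (!![1, (r.2.1 : ZMod 23); 0, 1] * !![(21 : ZMod 23) ^ r.2.2.1, 0; 0, 1] * !![0, 1; 22, 0] *
        !![1, (r.2.2.2 : ZMod 23); 0, 1]) := by decide +kernel

theorem model_rules : Rules (uG : PGL23) (hG : PGL23) (wG : PGL23) := by
  refine ⟨?_, ?_, ?_, ?_, ?_, fun r hr => ?_⟩
  · rw [← QuotientGroup.mk_pow]
    refine (mk_eq (g' := 1) 1 ?_).trans (QuotientGroup.mk_one _)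
    rw [uG_pow, one_smul, Units.val_one, Matrix.one_fin_two]
    decide +kernel
  · rw [← QuotientGroup.mk_pow]
    refine (mk_eq (g' := 1) 1 ?_).trans (QuotientGroup.mk_one _)
    rw [hG_pow, one_smul, Units.val_one, Matrix.one_fin_two]
    decide +kernel
  · rw [← QuotientGroup.mk_mul]
    refine (mk_eq (g' := 1) 22 ?_).trans (QuotientGroup.mk_one _)
    rw [Units.val_mul, wG_val, Units.val_one]
    decide +kernel
  · rw [← QuotientGroup.mk_pow, ← QuotientGroup.mk_mul, ← QuotientGroup.mk_mul]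
    refine mk_eq 1 ?_
    rw [Units.val_mul, Units.val_mul, uG_pow, one_smul]
    decide +kernel
  · rw [← QuotientGroup.mk_pow, ← QuotientGroup.mk_mul, ← QuotientGroup.mk_mul]
    refine mk_eq 2 ?_
    rw [Units.val_mul, Units.val_mul, hG_pow, wG_val]
    decide +kernel
  · obtain ⟨s, hs⟩ := rules_model r hr
    simp only [← QuotientGroup.mk_pow, ← QuotientGroup.mk_mul]
    refine mk_eq s ?_
    simp only [Units.val_mul, uG_pow, hG_pow, wG_val]
    exact hs

/-- A central matrix is scalar. -/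
theorem central_entries {g : GL (Fin 2) (ZMod 23)} (hg : (g : PGL23) = 1) :
    (g : Matrix (Fin 2) (Fin 2) (ZMod 23)) 1 0 = 0 ∧ (g : Matrix (Fin 2) (Fin 2) (ZMod 23)) 0 1 = 0 ∧
      (g : Matrix (Fin 2) (Fin 2) (ZMod 23)) 0 0 = (g : Matrix (Fin 2) (Fin 2) (ZMod 23)) 1 1 := by
  have hc := Subgroup.mem_center_iff.1 ((QuotientGroup.eq_one_iff g).1 hg)
  have e1 := congrArg (Units.val) (hc uG)
  have e2 := congrArg (Units.val) (hc wG)
  rw [Units.val_mul, Units.val_mul] at e1 e2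
  have f1 := congrFun (congrFun e1 0) 0
  have f2 := congrFun (congrFun e1 0) 1
  have f3 := congrFun (congrFun e2 0) 0
  simp [uG, wG, gl, Matrix.mul_apply, Fin.sum_univ_two] at f1 f2 f3
  refine ⟨f1, ?_, by linear_combination -f2⟩
  rw [f1] at f3
  simpa using (mul_eq_zero.1 f3.symm).resolve_right (by decide)

theorem model_forms :
    (∀ a b : ℕ, (uG : PGL23) ^ a * (hG : PGL23) ^ b = 1 → 23 ∣ a ∧ 22 ∣ b) ∧
      ∀ a b e : ℕ, (uG : PGL23) ^ a * (hG : PGL23) ^ b * (wG : PGL23) * (uG : PGL23) ^ e ≠ 1 := by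
  refine ⟨fun a b e => ?_, fun a b c e => ?_⟩
  · rw [← QuotientGroup.mk_pow, ← QuotientGroup.mk_pow, ← QuotientGroup.mk_mul] at e
    obtain ⟨-, h01, h00⟩ := central_entries e
    rw [Units.val_mul, uG_pow, hG_pow, Matrix.mul_fin_two] at h01 h00
    simp at h01 h00
    refine ⟨(CharP.cast_eq_zero_iff (ZMod 23) 23 a).1 h01, ?_⟩
    have h21 : orderOf (21 : ZMod 23) = 22 := by
      refine orderOf_eq_of_pow_and_pow_div_prime (by norm_num) (by decide +kernel) fun p hp hd => ?_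
      have : p = 2 ∨ p = 11 := by
        have := Nat.le_of_dvd (by norm_num) hd
        interval_cases p <;> first | omega | exact absurd hp (by norm_num)
      rcases this with rfl | rfl <;> decide +kernel
    exact h21 ▸ orderOf_dvd_of_pow_eq_one h00
  · rw [← QuotientGroup.mk_pow, ← QuotientGroup.mk_pow, ← QuotientGroup.mk_pow, ← QuotientGroup.mk_mul,
      ← QuotientGroup.mk_mul, ← QuotientGroup.mk_mul] at e
    obtain ⟨h10, -, -⟩ := central_entries e
    rw [Units.val_mul, Units.val_mul, Units.val_mul, uG_pow, uG_pow, hG_pow, wG_val, Matrix.mul_fin_two,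
      Matrix.mul_fin_two, Matrix.mul_fin_two] at h10
    simp at h10
    exact absurd h10 (by decide)

theorem model_surjective (q : PGL23) :
    q ∈ Subgroup.closure ({(uG : PGL23), (hG : PGL23), (wG : PGL23)} : Set PGL23) := by
  set S := Subgroup.closure ({(uG : PGL23), (hG : PGL23), (wG : PGL23)} : Set PGL23) with hS
  have hu : (uG : PGL23) ∈ S := Subgroup.subset_closure (by simp)
  have hh : (hG : PGL23) ∈ S := Subgroup.subset_closure (by simp)
  have hw : (wG : PGL23) ∈ S := Subgroup.subset_closure (by simp)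
  obtain ⟨g, rfl⟩ := QuotientGroup.mk_surjective q
  obtain ⟨p, q, r, t, hM⟩ : ∃ p q r t, (g : Matrix (Fin 2) (Fin 2) (ZMod 23)) = !![p, q; r, t] :=
    ⟨_, _, _, _, Matrix.eta_fin_two _⟩
  have hdet : p * t - q * r ≠ 0 := by
    intro h
    have := (Matrix.isUnit_iff_isUnit_det _).1 g.isUnit
    rw [hM, Matrix.det_fin_two_of, h] at this
    simp at this
  have hlog : ∀ x : ZMod 23, x ≠ 0 → ∃ b : Fin 22, (21 : ZMod 23) ^ (b : ℕ) = x := by decide +kernel
  by_cases hr : r = 0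
  · subst hr
    have hpt : p ≠ 0 ∧ t ≠ 0 := by constructor <;> rintro rfl <;> simp at hdet
    obtain ⟨b, hb⟩ := hlog (p / t) (div_ne_zero hpt.1 hpt.2)
    rw [show (g : PGL23) = (uG : PGL23) ^ (q / t).val * (hG : PGL23) ^ (b : ℕ) from ?_]
    · exact mul_mem (pow_mem hu _) (pow_mem hh _)
    · rw [← QuotientGroup.mk_pow, ← QuotientGroup.mk_pow, ← QuotientGroup.mk_mul]
      refine mk_eq t ?_
      rw [Units.val_mul, uG_pow, hG_pow, hM, hb, ZMod.natCast_zmod_val, Matrix.mul_fin_two]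
      have := hpt.2
      ext i j
      fin_cases i <;> fin_cases j <;> simp <;> field_simp
  · obtain ⟨b, hb⟩ := hlog ((p * t - q * r) / r ^ 2) (div_ne_zero hdet (pow_ne_zero _ hr))
    rw [show (g : PGL23) = (uG : PGL23) ^ (p / r).val * (hG : PGL23) ^ (b : ℕ) * (wG : PGL23) *
        (uG : PGL23) ^ (t / r).val from ?_]
    · exact mul_mem (mul_mem (mul_mem (pow_mem hu _) (pow_mem hh _)) hw) (pow_mem hu _)
    · rw [← QuotientGroup.mk_pow, ← QuotientGroup.mk_pow, ← QuotientGroup.mk_pow, ← QuotientGroup.mk_mul,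
        ← QuotientGroup.mk_mul, ← QuotientGroup.mk_mul]
      refine mk_eq (-r) ?_
      rw [Units.val_mul, Units.val_mul, Units.val_mul, uG_pow, uG_pow, hG_pow, wG_val, hM, hb,
        ZMod.natCast_zmod_val, ZMod.natCast_zmod_val,
        show (22 : ZMod 23) = -1 by decide, Matrix.mul_fin_two, Matrix.mul_fin_two, Matrix.mul_fin_two]
      ext i j
      fin_cases i <;> fin_cases j <;> simp <;> field_simp <;> ring

/-- Elements with the rules generate a copy of the group. -/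
theorem exists_pgl {Γ : Type*} [Group Γ] {u h w : Γ} (R : Rules u h w) (hu1 : u ≠ 1)
    (hh2 : h ^ 2 ≠ 1) (hh11 : h ^ 11 ≠ 1) (hn : ∀ a : ℕ, w * u * w ≠ u ^ a) :
    ∃ K : Subgroup Γ, Nonempty (↥K ≃* PGL23) := by
  have M := model_rules
  have P : Rules ((uG : PGL23), u) ((hG : PGL23), h) ((wG : PGL23), w) :=
    ⟨Prod.ext M.hu R.hu, Prod.ext M.hh R.hh, Prod.ext M.hw R.hw, Prod.ext M.hhu R.hhu, Prod.ext M.hwh R.hwh,
      fun r hr => Prod.ext (M.rule r hr) (R.rule r hr)⟩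
  set S : Subgroup (PGL23 × Γ) :=
    Subgroup.closure ({((uG : PGL23), u), ((hG : PGL23), h), ((wG : PGL23), w)} : Set (PGL23 × Γ)) with hS
  obtain ⟨f1, f2⟩ := forms_eq_one R hu1 hh2 hh11 hn
  let p1 : ↥S →* PGL23 := (MonoidHom.fst PGL23 Γ).comp S.subtype
  let p2 : ↥S →* Γ := (MonoidHom.snd PGL23 Γ).comp S.subtype
  have h1 : Function.Injective p1 := by
    rw [← MonoidHom.ker_eq_bot_iff, eq_bot_iff]
    rintro ⟨x, hx⟩ hk
    refine Subgroup.mem_bot.2 (Subtype.ext ?_)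
    rcases closure_le_forms P hx with ⟨a, b, rfl⟩ | ⟨a, b, e, rfl⟩
    · obtain ⟨⟨i, rfl⟩, ⟨j, rfl⟩⟩ := model_forms.1 a b hk
      dsimp only [Subgroup.coe_one]
      rw [pow_mul, pow_mul, P.hu, P.hh, one_pow, one_pow, one_mul]
    · exact absurd hk (model_forms.2 a b e)
  have h2 : Function.Injective p2 := by
    rw [← MonoidHom.ker_eq_bot_iff, eq_bot_iff]
    rintro ⟨x, hx⟩ hk
    refine Subgroup.mem_bot.2 (Subtype.ext ?_)
    rcases closure_le_forms P hx with ⟨a, b, rfl⟩ | ⟨a, b, e, rfl⟩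
    · obtain ⟨-, -, ⟨i, rfl⟩, ⟨j, rfl⟩⟩ := f1 a b hk
      dsimp only [Subgroup.coe_one]
      rw [pow_mul, pow_mul, P.hu, P.hh, one_pow, one_pow, one_mul]
    · exact absurd hk (f2 a b e)
  have hs : Function.Surjective p1 := fun q => by
    have : q ∈ S.map (MonoidHom.fst PGL23 Γ) := by
      rw [hS, MonoidHom.map_closure]
      simpa [Set.image_insert_eq] using model_surjective q
    obtain ⟨x, hx, rfl⟩ := this
    exact ⟨⟨x, hx⟩, rfl⟩
  exact ⟨p2.range, ⟨(MonoidHom.ofInjective h2).symm.trans (MulEquiv.ofBijective p1 ⟨h1, hs⟩)⟩⟩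

end Cfsg.Agent.J4Pgl
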