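import Cfsg.Agent.J4Pgl.Checks
import Cfsg.Agent.J4Pgl.Normal

/-!
# PGL(2, 23) in a simple group isomorphic to the presented J4
-/

set_option autoImplicit false
set_option maxRecDepth 100000

namespace Cfsg.Agent.J4Pgl

open Cfsg.Agent.J4Rep Cfsg.Agent.J4Out

local notation "J" => Cfsg.Spor.J4

/-- The elements of the seven letters. -/
noncomputable def el7 : Nat → J
  | 4 => ev base wordu
  | 5 => ev base wordH
  | 6 => ev base wordW
  | k => base k

theorem el7_lt : ∀ k < 4, el7 k = base k
  | 0, _ => rfl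
  | 1, _ => rfl
  | 2, _ => rfl
  | 3, _ => rfl

theorem mt7_lt : ∀ k < 4, mt7 k = mt k
  | 0, _ => rfl
  | 1, _ => rfl
  | 2, _ => rfl
  | 3, _ => rfl

theorem reps7 : ∀ k < 7, Reps (el7 k) (mt7 k) := by
  have hb : ∀ k < 4, Reps (el7 k) (mt7 k) := fun k hk => by
    rw [el7_lt k hk, mt7_lt k hk]; exact reps_base k hk
  have hs := List.all_eq_true.1 small_words
  have hd : ∀ (k : Nat) (w : List Nat), (∀ j ∈ w, j < 4) → el7 k = ev base w → eqB mt7 [k] w = true →
      Reps (el7 k) (mt7 k) := fun k w hw hk h =>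
    reps_of_eqB (fun j hj => hb j (hw j hj))
      (hk.trans (ev_congr fun j hj => (el7_lt j (hw j hj)).symm)) h
  intro k hk
  interval_cases k
  · exact hb 0 (by norm_num)
  · exact hb 1 (by norm_num)
  · exact hb 2 (by norm_num)
  · exact hb 3 (by norm_num)
  · exact hd 4 wordu (fun j hj => of_decide_eq_true (hs j (by simp [hj]))) rfl def_u
  · exact hd 5 wordH (fun j hj => of_decide_eq_true (hs j (by simp [hj]))) rfl def_H
  · exact hd 6 wordW (fun j hj => of_decide_eq_true (hs j (by simp [hj]))) rfl def_W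

theorem ev_replicate (n k : Nat) : ev el7 (List.replicate n k) = el7 k ^ n := by
  simp [ev]

theorem eq_of_checked (hs : IsSimpleGroup J) {w z : List Nat} (hw : (w ++ z).all (fun k => decide (k < 7)) = true)
    (h : eqB mt7 w z = true) : ev el7 w = ev el7 z :=
  ev_eq_of_eqB hs (fun j hj => reps7 j (of_decide_eq_true (List.all_eq_true.1 hw j (by simp [hj]))))
    (fun j hj => reps7 j (of_decide_eq_true (List.all_eq_true.1 hw j (by simp [hj])))) h

theorem ev_ne {w z : List Nat} (hw : (w ++ z).all (fun k => decide (k < 7)) = true)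
    (h : ((units 112).any fun v => ! Nat.beq (run mt7 w v) (run mt7 z v)) = true) : ev el7 w ≠ ev el7 z := by
  intro e
  obtain ⟨v, hv, hne⟩ := List.any_eq_true.1 h
  obtain ⟨i, hi, rfl⟩ := List.mem_map.1 hv
  have hv' : Nat.pow 2 i < 2 ^ 112 := Nat.pow_lt_pow_right (by norm_num) (List.mem_range.1 hi)
  have hr : ∀ j ∈ w ++ z, Reps (el7 j) (mt7 j) := fun j hj =>
    reps7 j (of_decide_eq_true (List.all_eq_true.1 hw j hj))
  have h1 := fn_ev (fun j hj => hr j (List.mem_append_left _ hj)) hv'
  have h2 := fn_ev (fun j hj => hr j (List.mem_append_right _ hj)) hv'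
  rw [e, h2] at h1
  rw [h1] at hne
  simp at hne

theorem exists_pgl_j4 (hs : IsSimpleGroup J) : ∃ K : Subgroup J, Nonempty (↥K ≃* PGL23) := by
  have hsmall : ∀ {w z : List Nat}, (∀ k ∈ w, k < 7) → (∀ k ∈ z, k < 7) →
      (w ++ z).all (fun k => decide (k < 7)) = true := fun {w z} h1 h2 =>
    List.all_eq_true.2 fun k hk => decide_eq_true (by
      rcases List.mem_append.1 hk with h | h
      exacts [h1 k h, h2 k h])
  have R : Rules (el7 4) (el7 5) (el7 6) := by
    refine ⟨?_, ?_, ?_, ?_, ?_, fun r hr => ?_⟩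
    · have := eq_of_checked hs (by decide) rel_u
      rwa [ev_replicate, ev_nil] at this
    · have := eq_of_checked hs (by decide) rel_H
      rwa [ev_replicate, ev_nil] at this
    · have := eq_of_checked hs (by decide) rel_W
      simpa [ev] using this
    · have := eq_of_checked hs (by decide) rel_Hu
      rw [ev_append, ev_replicate] at this
      simpa [ev] using this
    · have := eq_of_checked hs (by decide) rel_WH
      rw [ev_replicate] at this
      simpa [ev, mul_assoc] using this
    · have h := List.all_eq_true.1 rel_rules r hr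
      have := eq_of_checked hs (hsmall (by simp +contextual [List.mem_replicate, or_imp])
        (by simp +contextual [List.mem_replicate, or_imp])) h
      simp only [ev_append, ev_replicate] at this
      simpa [ev, mul_assoc] using this
  obtain ⟨m1, m2, m3⟩ := moves
  have hne : ∀ {w : List Nat}, (∀ k ∈ w, k < 7) → movesB w = true → ev el7 w ≠ 1 := fun {w} hw h => by
    rw [← ev_nil el7]
    exact ev_ne (hsmall hw (by simp)) h
  refine exists_pgl R ?_ ?_ ?_ fun a e => ?_
  · simpa [ev] using hne (by simp) m1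
  · simpa [ev, pow_two] using hne (by simp) m2
  · have := hne (fun k hk => (List.eq_of_mem_replicate hk).symm ▸ by norm_num) m3
    rwa [ev_replicate] at this
  · rw [pow_eq_pow_mod a R.hu] at e
    refine ev_ne (hsmall (by simp) (by simp +contextual [List.mem_replicate]))
      (List.all_eq_true.1 not_norm (a % 23) (List.mem_range.2 (Nat.mod_lt _ (by norm_num)))) ?_
    rw [ev_replicate, ← e]
    simp [ev, mul_assoc]

/-- The same in any simple group isomorphic to J4. -/
theorem exists_pgl_of_iso {G : Type*} [Group G] [IsSimpleGroup G] (φ : J ≃* G) :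
    ∃ K : Subgroup G, Nonempty (↥K ≃* GL (Fin 2) (ZMod 23) ⧸ Subgroup.center (GL (Fin 2) (ZMod 23))) := by
  haveI : IsSimpleGroup J := φ.isSimpleGroup
  obtain ⟨K, ⟨e⟩⟩ := exists_pgl_j4 inferInstance
  exact ⟨K.map φ.toMonoidHom, ⟨(φ.subgroupMap K).symm.trans e⟩⟩

end Cfsg.Agent.J4Pgl
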